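import Cfsg.Agent.Lib.Presented.Table
import Cfsg.Agent.Lib.Presented.ON.Words

/-!
# Six symmetric matrices realising `L₃(7):2`

`A i` is symmetric of determinant one, and `x_i = (A i, graph)` are involutions of `PSL₃(7):2`; a product of two of
them is the matrix `A i * (A j)⁻¹`.
-/

set_option autoImplicit false

namespace Cfsg.Agent.Presented.L37

/-- Matrices of size three over the field of seven elements. -/
abbrev M3 : Type := Matrix (Fin 3) (Fin 3) (ZMod 7)

/-- The matrix of a generator. -/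
def matA : ℕ → M3
  | 1 => !![0, 0, 1; 0, 6, 0; 1, 0, 0]
  | 2 => !![0, 1, 0; 1, 0, 0; 0, 0, 6]
  | 3 => !![0, 0, 3; 0, 3, 0; 3, 0, 0]
  | 4 => !![1, 1, 4; 1, 2, 5; 4, 5, 4]
  | 5 => !![1, 0, 0; 0, 1, 0; 0, 0, 1]
  | 6 => !![1, 0, 0; 0, 2, 0; 0, 0, 4]
  | _ => 1

/-- The inverse of the matrix of a generator. -/
def matB : ℕ → M3
  | 1 => !![0, 0, 1; 0, 6, 0; 1, 0, 0]
  | 2 => !![0, 1, 0; 1, 0, 0; 0, 0, 6]
  | 3 => !![0, 0, 5; 0, 5, 0; 5, 0, 0]
  | 4 => !![4, 2, 4; 2, 2, 6; 4, 6, 1]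
  | 5 => !![1, 0, 0; 0, 1, 0; 0, 0, 1]
  | 6 => !![1, 0, 0; 0, 4, 0; 0, 0, 2]
  | _ => 1

/-- A matrix with computed entries. -/
noncomputable def norm (A : M3) : M3 :=
  force (A 0 0).val fun a => force (A 0 1).val fun b => force (A 0 2).val fun c =>
  force (A 1 0).val fun d => force (A 1 1).val fun e => force (A 1 2).val fun f =>
  force (A 2 0).val fun g => force (A 2 1).val fun h => force (A 2 2).val fun i =>
    !![(a : ZMod 7), b, c; d, e, f; g, h, i]

theorem norm_eq (A : M3) : norm A = A := by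
  simp only [norm, force_eq, ZMod.natCast_zmod_val]
  ext i j
  fin_cases i <;> fin_cases j <;> rfl

/-- The matrix of a word of even length. -/
noncomputable def pairM : List ℕ → M3
  | [] => 1
  | [_] => 1
  | x :: y :: w => norm (norm (pairM w) * norm (matA y * matB x))

/-- A scalar matrix. -/
noncomputable def isScalar (A : M3) : Bool :=
  [1, 2, 4].any fun k => decide (A = (k : ZMod 7) • (1 : M3))

/-- The relators not involving `t`. -/
def rels : List (List ℕ) := ONTable.relWords.filter fun w => w.all fun g => Nat.ble 1 g && Nat.ble g 6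

/-- Words for the six root subgroups. -/
def elemWord (i j : Fin 3) : List ℕ :=
  match i.val, j.val with
  | 0, 1 => [4, 3, 4, 5, 2, 3, 4, 5, 3, 2, 4, 3, 4, 5, 4, 3, 2, 1, 4, 3, 4, 3]
  | 0, 2 => [2, 3, 5, 4, 3, 2, 4, 3, 5, 4, 3, 2, 5, 4, 3, 4, 5, 4, 3, 2, 4, 3, 4, 5, 1, 2]
  | 1, 0 => [5, 6, 4, 3, 4, 3, 2, 3, 5, 4, 3, 2, 5, 4, 3, 4, 5, 4, 3, 2, 4, 3, 4, 5]
  | 1, 2 => [4, 3, 1, 2, 4, 3, 5, 4, 3, 2, 5, 4, 3, 4, 5, 4, 3, 2, 4, 3, 4, 3]
  | 2, 0 => [2, 1, 4, 3, 4, 5, 2, 3, 4, 5, 3, 2, 4, 3, 5, 4, 3, 2, 5, 4, 3, 4, 3, 2]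
  | 2, 1 => [3, 4, 5, 4, 3, 2, 5, 4, 3, 4, 5, 4, 3, 2, 4, 3, 4, 5, 4, 3, 2, 1, 4, 3, 4, 5]
  | _, _ => []

theorem gens_ok : (List.range 7).all (fun i => decide ((matA i).det = 1) && decide ((matB i).det = 1) &&
    decide (matA i * matB i = 1) && decide ((matB i).transpose = matB i) && decide (matB i * matA i = 1)) = true := by
  decide +kernel

theorem rels_ok : rels.all (fun w => Nat.beq (w.length % 2) 0 && isScalar (pairM w)) = true := by decide +kernel

theorem elem_ok : ∀ i j : Fin 3, ∀ c : ZMod 7, i ≠ j →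
    isScalar (norm (pairM (List.replicate c.val (elemWord i j)).flatten) * Matrix.transvection i j (-c)) = true := by
  decide +kernel

theorem elemWord_ok : ∀ i j : Fin 3,
    ((elemWord i j).all (fun g => Nat.ble 1 g && Nat.ble g 6) && Nat.beq ((elemWord i j).length % 2) 0) = true := by
  decide +kernel

end Cfsg.Agent.Presented.L37
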